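import Cfsg.Agent.H680.Split.HNPre

/-! The kernel check of `Cfsg.Agent.H315.Spr.HNTb`, one check for each segment of the program (helper680). -/

set_option autoImplicit false
set_option maxRecDepth 100000
set_option Elab.async false

namespace Cfsg.Agent.H680.Split.HNTb

open Cfsg.Agent.H154.Split
open Cfsg.Agent.HN.RepData (C)
open Cfsg.Agent.HN.A12Step (L20)
open Cfsg.Agent.H680.Split.HNPre (D0 D1 D2 D3 D5 D6 D8 D11 D12 D13 D18 D22 D23 S0 S1 S2 c0 c1 c2)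

/-- segment 3 -/
def S3 : Seg where
  ws := [
    (48, [50, 0, 51, 49, 10, 1]),
    (0, [0]),
    (0, [0]),
    (0, [0]),
    (0, [0]),
    (0, [3, 4]),
    (50, [54, 6, 55, 51, 16, 7, 7]),
    (0, [0]),
    (0, [0]),
    (0, [0]),
    (0, [0]),
    (0, [3, 4])]
  m := [0, 0, 0, 0, 0, 0, 0, 0, 0, 0, 0, 0]
  N := [0, 0, 0, 0, 0, 0, 0, 0, 0, 0, 0, 0]
  es := [(6, 35), (0, 35)]
  ns := []

/-- segment 4 -/
def S4 : Seg where
  ws := [
    (59, [12, 58, 17]),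
    (0, [0]),
    (0, [0]),
    (0, [0]),
    (0, [0]),
    (0, [3, 4]),
    (68, [66, 18, 67, 69, 23, 42]),
    (0, [0]),
    (0, [0]),
    (0, [0]),
    (0, [0]),
    (0, [3, 4])]
  m := [0, 0, 0, 0, 0, 0, 0, 0, 0, 0, 0, 0]
  N := [0, 0, 0, 0, 0, 0, 0, 0, 0, 0, 0, 0]
  es := [(6, 47), (0, 47)]
  ns := []

/-- segment 5 -/
def S5 : Seg where
  ws := [
    (72, [24, 73, 29, 48, 48]),
    (0, [0]),
    (0, [0]),
    (0, [0]),
    (0, [0]),
    (0, [3, 4]),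
    (78, [30, 79, 35, 31]),
    (0, [0]),
    (0, [0]),
    (0, [0]),
    (0, [0]),
    (0, [3, 4])]
  m := [0, 0, 0, 0, 0, 0, 0, 0, 0, 0, 0, 0]
  N := [0, 0, 0, 0, 0, 0, 0, 0, 0, 0, 0, 0]
  es := [(6, 59), (0, 59)]
  ns := []

/-- segment 6 -/
def S6 : Seg where
  ws := [
    (82, [36, 83, 41, 37, 60]),
    (0, [0]),
    (0, [0]),
    (0, [0]),
    (0, [0]),
    (0, [3, 4]),
    (86, [86, 42, 87, 87, 47, 43, 66, 66]),
    (0, [0]),
    (0, [0]),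
    (0, [0]),
    (0, [0]),
    (0, [3, 4])]
  m := [0, 0, 0, 0, 0, 0, 0, 0, 0, 0, 0, 0]
  N := [0, 0, 0, 0, 0, 0, 0, 0, 0, 0, 0, 0]
  es := [(6, 71), (0, 71)]
  ns := []

/-- segment 7 -/
def S7 : Seg where
  ws := [
    (98, [48, 99, 53, 49, 49]),
    (0, [0]),
    (0, [0]),
    (0, [0]),
    (0, [0]),
    (0, [3, 4]),
    (98, [102, 54, 103, 99, 59, 55, 55, 78]),
    (0, [0]),
    (0, [0]),
    (0, [0]),
    (0, [0]),
    (0, [3, 4])]
  m := [0, 0, 0, 0, 0, 0, 0, 0, 0, 0, 0, 0]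
  N := [0, 0, 0, 0, 0, 0, 0, 0, 0, 0, 0, 0]
  es := [(6, 83), (0, 83)]
  ns := []

/-- segment 8 -/
def S8 : Seg where
  ws := [
    (107, [60, 106, 65, 70, 61, 61]),
    (0, [0]),
    (0, [0]),
    (0, [0]),
    (0, [0]),
    (0, [3, 4])]
  m := [0, 0, 0, 0, 0, 0]
  N := [0, 0, 0, 0, 0, 0]
  es := [(0, 89)]
  ns := []

theorem c3 : segC C S3 (S2.N ++ (S1.N ++ (S0.N ++ (L20)))) = true := by decide +kernel
theorem c4 : segC C S4 (S3.N ++ (S2.N ++ (S1.N ++ (S0.N ++ (L20))))) = true := by decide +kernel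
theorem c5 : segC C S5 (S4.N ++ (S3.N ++ (S2.N ++ (S1.N ++ (S0.N ++ (L20)))))) = true := by decide +kernel
theorem c6 : segC C S6 (S5.N ++ (S4.N ++ (S3.N ++ (S2.N ++ (S1.N ++ (S0.N ++ (L20))))))) = true := by decide +kernel
theorem c7 : segC C S7 (S6.N ++ (S5.N ++ (S4.N ++ (S3.N ++ (S2.N ++ (S1.N ++ (S0.N ++ (L20)))))))) = true := by decide +kernel
theorem c8 : segC C S8 (S7.N ++ (S6.N ++ (S5.N ++ (S4.N ++ (S3.N ++ (S2.N ++ (S1.N ++ (S0.N ++ (L20))))))))) = true := by decide +kernel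

/-- the segments -/
def segs : List Seg := [S0, S1, S2, S3, S4, S5, S6, S7, S8]

theorem chain : Chain C L20 segs := ⟨c0, c1, c2, c3, c4, c5, c6, c7, c8, trivial⟩

end Cfsg.Agent.H680.Split.HNTb
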