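import Cfsg.Agent.H981.Inv.HNCodes

/-! The elements of the list `gens2` of `Cfsg.Agent.H981.Inv.HNCodes` without unfolding them (helper680). -/

set_option autoImplicit false
set_option maxRecDepth 100000
namespace Cfsg.Agent.H680.Split.HNG
open Cfsg.Agent.HN Cfsg.Agent.H981.InvHN Cfsg.Agent.Lib.PackMatMul
open Cfsg.Agent.H839.Rad.HN (evF W A B C₁ D F)

/-- the elements of `gens2` -/
theorem eqs : gens2.getD 0 1 = W ∧ gens2.getD 1 1 = A ∧ gens2.getD 2 1 = B ∧ gens2.getD 3 1 = C₁ ∧ gens2.getD 4 1 = D ∧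
    gens2.getD 5 1 = F := by
  refine ⟨?_, ?_, ?_, ?_, ?_, ?_⟩ <;>
    simp only [gens2, List.cons_append, List.getD_cons_succ, List.getD_cons_zero]
theorem eqs' : gens2.getD 6 1 = Rep.x ∧ gens2.getD 7 1 = Rep.x⁻¹ ∧ gens2.getD 8 1 = Rep.y ∧ gens2.getD 9 1 = Rep.y⁻¹ ∧
    gens2.getD 10 1 = Rep.z ∧ gens2.getD 11 1 = Rep.z⁻¹ ∧ gens2.getD 12 1 = Rep.t ∧ gens2.getD 13 1 = Rep.t⁻¹ := by
  refine ⟨?_, ?_, ?_, ?_, ?_, ?_, ?_, ?_⟩ <;>
    simp only [gens2, Rep.gens, List.cons_append, List.getD_cons_succ, List.getD_cons_zero, List.nil_append]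
end Cfsg.Agent.H680.Split.HNG
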